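import Cfsg.Agent.StronglyEmbedded.Basic
import Cfsg.Agent.Transfer.ThompsonTransfer

/-!
A 2-group with an involution whose centralizer has order four has a cyclic subgroup of index two
avoiding it; hence such an involution of a larger Sylow 2-subgroup lies outside a normal subgroup
of index two.
-/

set_option autoImplicit false

namespace CfsgLib.SelfCentralizingFour

open CfsgLib.StronglyEmbedded (mul_self_eq_one inv_eq_self ne_one_of_orderOf_two orderOf_two_iff
  orderOf_conj commute_iff_conj_eq)

/-- A finite cyclic group has at most one involution. -/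
theorem eq_of_orderOf_two_of_isCyclic {P : Type*} [Group P] [Finite P] [IsCyclic P] {a b : P}
    (ha : orderOf a = 2) (hb : orderOf b = 2) : a = b := by
  classical
  haveI := Fintype.ofFinite P
  have hd : 2 ∣ Fintype.card P := by
    rw [← ha, ← Nat.card_eq_fintype_card]; exact orderOf_dvd_natCard a
  have h := IsCyclic.card_orderOf_eq_totient (α := P) hd
  rw [Nat.totient_two] at h
  exact Finset.card_le_one.mp h.le a (by simp [ha]) b (by simp [hb])

theorem exists_cyclic_index_two : ∀ (n : ℕ) (P : Type*) [Group P] [Finite P], Nat.card P = n →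
    IsPGroup 2 P → ∀ x : P, orderOf x = 2 →
    Nat.card (Subgroup.centralizer ({x} : Set P)) = 4 → 8 ≤ Nat.card P →
    ∃ M : Subgroup P, M.index = 2 ∧ IsCyclic M ∧ x ∉ M := by
  intro n
  induction n using Nat.strong_induction_on with
  | _ n ih =>
  intro P _ _ hn hP x hx hC h8
  obtain ⟨m, hm⟩ := IsPGroup.iff_card.mp hP
  have hxnc : ¬ ∀ g : P, Commute g x := by
    intro hall
    have : Subgroup.centralizer ({x} : Set P) = ⊤ :=
      eq_top_iff.mpr fun g _ => Subgroup.mem_centralizer_singleton_iff.mpr (hall g)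
    rw [this, Subgroup.card_top] at hC
    omega
  by_cases h16 : Nat.card P = 8
  · -- order eight
    obtain ⟨a, ha⟩ : ∃ a : P, a * a ≠ 1 := by
      by_contra hcon
      push Not at hcon
      refine hxnc fun g => ?_
      have hinv : ∀ b : P, b⁻¹ = b := fun b => inv_eq_of_mul_eq_one_right (hcon b)
      change g * x = x * g
      rw [← hinv (g * x), mul_inv_rev, hinv, hinv]
    obtain ⟨k, hk, hk'⟩ := (Nat.dvd_prime_pow Nat.prime_two).mp
      (show orderOf a ∣ 2 ^ 3 from (show (2:ℕ) ^ 3 = Nat.card P by rw [h16]; rfl) ▸ orderOf_dvd_natCard a)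
    have hk3 : k ≠ 3 := by
      intro h3
      have htop : Subgroup.zpowers a = ⊤ :=
        Subgroup.eq_top_of_card_eq _ (by rw [Nat.card_zpowers, hk', h3, h16]; rfl)
      exact hxnc fun g => by
        obtain ⟨i, rfl⟩ := Subgroup.mem_zpowers_iff.mp (htop ▸ Subgroup.mem_top g)
        obtain ⟨j, rfl⟩ := Subgroup.mem_zpowers_iff.mp (htop ▸ Subgroup.mem_top x)
        exact (Commute.refl a).zpow_zpow i j
    have hk2 : k = 2 := by
      by_contra hne
      apply ha
      have h1 : orderOf a ∣ 2 := by
        rw [hk']; interval_cases k <;> simp_all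
      have := orderOf_dvd_iff_pow_eq_one.mp h1
      rwa [sq] at this
    subst hk2
    have hidx : (Subgroup.zpowers a).index = 2 := by
      have := Subgroup.card_mul_index (Subgroup.zpowers a)
      rw [Nat.card_zpowers, hk', h16] at this
      omega
    refine ⟨Subgroup.zpowers a, hidx, inferInstance, fun hxa => hxnc fun g => ?_⟩
    haveI : (Subgroup.zpowers a).Normal := Subgroup.normal_of_index_eq_two hidx
    have hg : g * x * g⁻¹ ∈ Subgroup.zpowers a := Subgroup.Normal.conj_mem inferInstance x hxa g
    refine commute_iff_conj_eq.mpr (congrArg Subtype.val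
      (eq_of_orderOf_two_of_isCyclic (P := Subgroup.zpowers a) (a := ⟨_, hg⟩) (b := ⟨x, hxa⟩) ?_ ?_))
    · rw [← Subgroup.orderOf_coe, orderOf_conj, hx]
    · rw [← Subgroup.orderOf_coe, hx]
  · -- order at least sixteen
    have hm4 : 4 ≤ m := by
      by_contra hlt
      interval_cases m <;> norm_num at hm <;> omega
    haveI : Nontrivial P := Finite.one_lt_card_iff_nontrivial.mp (by omega)
    have hcent := hP.center_nontrivial
    obtain ⟨c, hc, hcard⟩ := ((hP.to_subgroup (Subgroup.center P)).nontrivial_iff_card).mp hcent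
    obtain ⟨z', hz'⟩ := exists_prime_orderOf_dvd_card' (G := Subgroup.center P) 2
      (hcard ▸ dvd_pow_self 2 hc.ne')
    have hz : orderOf (z' : P) = 2 := by rw [Subgroup.orderOf_coe, hz']
    have hzc : ∀ g : P, Commute g (z' : P) := fun g => Subgroup.mem_center_iff.mp z'.2 g
    obtain ⟨z, hzd⟩ : ∃ z : P, z = (z' : P) := ⟨_, rfl⟩
    rw [← hzd] at hz hzc
    have hxz : x ≠ z := fun h => hxnc (h ▸ hzc)
    have hxzmem : ∀ g : P, Commute g x → g = 1 ∨ g = x ∨ g = z ∨ g = x * z := by
      classical
      intro g hg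
      haveI := Fintype.ofFinite P
      let s : Finset P := {1, x, z, x * z}
      have hx1 := ne_one_of_orderOf_two hx
      have hz1 := ne_one_of_orderOf_two hz
      have hscard : s.card = 4 := by
        have h1 : x * z ≠ 1 := fun h => hxz (by
          rw [eq_inv_of_mul_eq_one_left h, inv_eq_self hz])
        have h2 : x * z ≠ x := fun h => hz1 (mul_left_cancel (a := x) (by rw [h, mul_one]))
        have h3 : x * z ≠ z := fun h => hx1 (mul_right_cancel (b := z) (by rw [h, one_mul]))
        simp [s, hx1.symm, hz1.symm, hxz, h1.symm, h2.symm, h3.symm]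
      have hss : s ⊆ ((Subgroup.centralizer ({x} : Set P)) : Set P).toFinset := by
        intro y hy
        simp only [s, Finset.mem_insert, Finset.mem_singleton] at hy
        rw [Set.mem_toFinset, SetLike.mem_coe, Subgroup.mem_centralizer_singleton_iff]
        rcases hy with rfl | rfl | rfl | rfl
        · simp
        · rfl
        · exact (hzc x).eq.symm
        · exact ((Commute.refl x).mul_right (hzc x)).eq.symm
      have heq := Finset.eq_of_subset_of_card_le hss (by
        rw [hscard, Set.toFinset_card, ← Nat.card_eq_fintype_card]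
        exact hC.le)
      have hgs : g ∈ s := by
        rw [heq, Set.mem_toFinset, SetLike.mem_coe, Subgroup.mem_centralizer_singleton_iff]
        exact hg
      simpa [s] using hgs
    set Z := Subgroup.zpowers z with hZdef
    have hZmem : ∀ g : P, g ∈ Z → g = 1 ∨ g = z := by
      intro g hg
      obtain ⟨i, rfl⟩ := Subgroup.mem_zpowers_iff.mp hg
      rcases Int.even_or_odd i with ⟨j, rfl⟩ | ⟨j, rfl⟩
      · left; rw [← two_mul, zpow_mul, zpow_two, mul_self_eq_one hz, one_zpow]
      · right; rw [zpow_add, zpow_mul, zpow_two, mul_self_eq_one hz, one_zpow, one_mul, zpow_one]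
    haveI : Z.Normal := ⟨fun a ha g => by
      rcases hZmem a ha with rfl | rfl
      · simp [Z.one_mem]
      · rw [commute_iff_conj_eq.mp (hzc g)]; exact Subgroup.mem_zpowers _⟩
    have hZcard : Nat.card Z = 2 := by rw [Nat.card_zpowers, hz]
    have hπsurj := QuotientGroup.mk'_surjective Z
    set π := QuotientGroup.mk' Z with hπ
    have hker : ∀ g : P, π g = 1 ↔ g ∈ Z := fun g => QuotientGroup.eq_one_iff g
    have hx' : orderOf (π x) = 2 := by
      rw [orderOf_two_iff, ← map_mul, mul_self_eq_one hx, map_one]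
      refine ⟨rfl, fun h => ?_⟩
      rcases hZmem x ((hker x).mp h) with h' | h'
      · exact ne_one_of_orderOf_two hx h'
      · exact hxz h'
    have hcardQ : Nat.card (P ⧸ Z) * 2 = Nat.card P := by
      rw [← hZcard]; exact (Subgroup.card_eq_card_quotient_mul_card_subgroup Z).symm
    -- the preimage of the centralizer of `π x`
    set D := (Subgroup.centralizer ({π x} : Set (P ⧸ Z))).comap π with hD
    have hDmem : ∀ g : P, g ∈ D → g * x * g⁻¹ = x ∨ g * x * g⁻¹ = x * z := by
      intro g hg
      rw [hD, Subgroup.mem_comap, Subgroup.mem_centralizer_singleton_iff] at hg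
      have h1 : x⁻¹ * (g * x * g⁻¹) ∈ Z := by
        rw [← hker, map_mul, map_mul, map_mul, hg, map_inv, map_inv]; group
      rcases hZmem _ h1 with h | h
      · left; exact (inv_mul_eq_one.mp h).symm
      · right; exact inv_mul_eq_iff_eq_mul.mp h
    have hCD : Subgroup.centralizer ({x} : Set P) < D := by
      refine lt_of_le_of_ne (fun g hg => ?_) ?_
      · rw [Subgroup.mem_centralizer_singleton_iff] at hg
        rw [hD, Subgroup.mem_comap, Subgroup.mem_centralizer_singleton_iff, ← map_mul, hg, map_mul]
      · intro heq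
        haveI : Group.IsNilpotent P := hP.isNilpotent
        have hlt := Group.normalizerCondition_of_isNilpotent (G := P)
          (Subgroup.centralizer ({x} : Set P)) (lt_top_iff_ne_top.mpr fun h => hxnc fun g =>
            Subgroup.mem_centralizer_singleton_iff.mp (h ▸ Subgroup.mem_top g))
        obtain ⟨g, hgN, hgC⟩ := Set.exists_of_ssubset (SetLike.coe_ssubset_coe.mpr hlt)
        have hgx : g * x * g⁻¹ ∈ Subgroup.centralizer ({x} : Set P) :=
          (Subgroup.mem_normalizer_iff.mp hgN x).mp (Subgroup.mem_centralizer_singleton_iff.mpr rfl)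
        have h2 : orderOf (g * x * g⁻¹) = 2 := by rw [orderOf_conj, hx]
        rcases hxzmem _ (Subgroup.mem_centralizer_singleton_iff.mp hgx) with h | h | h | h
        · exact ne_one_of_orderOf_two h2 h
        · exact hgC (Subgroup.mem_centralizer_singleton_iff.mpr (commute_iff_conj_eq.mpr h).eq)
        · apply hxz
          calc x = g⁻¹ * (g * x * g⁻¹) * g := by group
            _ = z := by rw [h, mul_assoc, ← (hzc g).eq, inv_mul_cancel_left]
        · apply hgC
          rw [SetLike.mem_coe, heq, hD, Subgroup.mem_comap, Subgroup.mem_centralizer_singleton_iff]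
          have h3 : π g * π x * (π g)⁻¹ = π x := by
            rw [← map_inv, ← map_mul, ← map_mul, h, map_mul,
              (hker z).mpr (Subgroup.mem_zpowers z), mul_one]
          exact mul_inv_eq_iff_eq_mul.mp h3
    have hDcard : Nat.card D ≤ 8 := by
      classical
      have : Nat.card D ≤ Nat.card ((Subgroup.centralizer ({x} : Set P)) × Bool) := by
        by_cases hex : ∃ d ∈ D, d * x * d⁻¹ ≠ x
        · obtain ⟨d, hd, hdx⟩ := hex
          refine Nat.card_le_card_of_injective (fun g : D =>
            if h : (g : P) * x * (g : P)⁻¹ = x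
            then ((⟨g, Subgroup.mem_centralizer_singleton_iff.mpr (commute_iff_conj_eq.mpr h).eq⟩ :
              Subgroup.centralizer ({x} : Set P)), true)
            else ((⟨d⁻¹ * g, Subgroup.mem_centralizer_singleton_iff.mpr (commute_iff_conj_eq.mpr
              (by
                rw [show d⁻¹ * (g : P) * x * (d⁻¹ * (g : P))⁻¹ =
                    d⁻¹ * ((g : P) * x * (g : P)⁻¹) * d by group,
                  (hDmem g g.2).resolve_left h, ← (hDmem d hd).resolve_left hdx]
                group)).eq⟩ : Subgroup.centralizer ({x} : Set P)), false)) ?_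
          intro a b hab
          dsimp only at hab
          split_ifs at hab with h1 h2 h2
          · exact Subtype.ext (congrArg (fun p => (p.1 : P)) hab)
          · exact absurd (congrArg Prod.snd hab) (by simp)
          · exact absurd (congrArg Prod.snd hab) (by simp)
          · exact Subtype.ext (mul_left_cancel (congrArg (fun p => (p.1 : P)) hab))
        · push Not at hex
          refine Nat.card_le_card_of_injective (fun g : D => ((⟨g,
            Subgroup.mem_centralizer_singleton_iff.mpr (commute_iff_conj_eq.mpr (hex g g.2)).eq⟩ :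
              Subgroup.centralizer ({x} : Set P)), true)) ?_
          intro a b hab
          exact Subtype.ext (congrArg (fun p => (p.1 : P)) hab)
      rw [Nat.card_prod, hC, Nat.card_eq_fintype_card (α := Bool), Fintype.card_bool] at this
      exact this
    have hDcard' : Nat.card D = 8 := by
      have h2 := Subgroup.card_dvd_of_le hCD.le
      rw [hC] at h2
      have h3 : Nat.card D ≠ 4 := fun h => hCD.ne (Subgroup.eq_of_le_of_card_ge hCD.le (by rw [h, hC]))
      obtain ⟨i, hi⟩ := IsPGroup.iff_card.mp (hP.to_subgroup D)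
      have hi3 : i ≤ 3 := by
        by_contra hh
        have := Nat.pow_le_pow_right (show 1 ≤ 2 by norm_num) (show 4 ≤ i by omega)
        omega
      interval_cases i <;> omega
    have hC' : Nat.card (Subgroup.centralizer ({π x} : Set (P ⧸ Z))) = 4 := by
      have h1 : Nat.card Z * Z.relIndex D = Nat.card D := by
        rw [← Subgroup.relIndex_bot_left, ← Subgroup.relIndex_bot_left]
        exact Subgroup.relIndex_mul_relIndex _ _ _ bot_le fun g hg => by
          rw [hD, Subgroup.mem_comap, (hker g).mpr hg]; exact Subgroup.one_mem _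
      have h2 : Z.relIndex D = Nat.card (Subgroup.centralizer ({π x} : Set (P ⧸ Z))) := by
        have := Subgroup.relIndex_comap ⊥ π D
        rwa [MonoidHom.comap_bot, hπ, QuotientGroup.ker_mk', Subgroup.relIndex_bot_left, ← hπ, hD,
          Subgroup.map_comap_eq_self_of_surjective hπsurj] at this
      rw [hZcard, h2, hDcard'] at h1
      omega
    have h8' : 8 ≤ Nat.card (P ⧸ Z) := by
      have : 2 ^ 4 ≤ Nat.card P := hm ▸ Nat.pow_le_pow_right (by norm_num) hm4
      omega
    obtain ⟨M', hM'i, hM'c, hM'x⟩ :=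
      ih _ (by omega) (P ⧸ Z) rfl (hP.to_quotient Z) (π x) hx' hC' h8'
    set M := M'.comap π with hMdef
    have hMi : M.index = 2 := by rw [hMdef, Subgroup.index_comap_of_surjective _ hπsurj, hM'i]
    have hxM : x ∉ M := hM'x
    haveI : M.Normal := Subgroup.normal_of_index_eq_two hMi
    refine ⟨M, hMi, ?_, hxM⟩
    obtain ⟨⟨q, hq⟩, hqgen⟩ := hM'c.exists_generator
    obtain ⟨a, rfl⟩ := hπsurj q
    have hzM : z ∈ M := by
      rw [hMdef, Subgroup.mem_comap, (hker z).mpr (Subgroup.mem_zpowers z)]; exact M'.one_mem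
    have hMgen : ∀ g ∈ M, ∃ i : ℤ, g = a ^ i ∨ g = a ^ i * z := by
      intro g hg
      obtain ⟨i, hi⟩ := Subgroup.mem_zpowers_iff.mp (hqgen ⟨π g, hg⟩)
      have hi' : π (a ^ i) = π g := by
        rw [map_zpow]; exact congrArg Subtype.val hi
      have : (a ^ i)⁻¹ * g ∈ Z := by rw [← hker, map_mul, map_inv, hi', inv_mul_cancel]
      rcases hZmem _ this with h | h
      · exact ⟨i, .inl (inv_mul_eq_one.mp h).symm⟩
      · exact ⟨i, .inr (inv_mul_eq_iff_eq_mul.mp h)⟩
    have hzin : z ∈ Subgroup.zpowers a := by
      by_contra hza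
      have hM'card : Nat.card M' * 2 = Nat.card (P ⧸ Z) := by
        rw [← hM'i]; exact M'.card_mul_index
      have hord : orderOf a = Nat.card M' := by
        have h1 : orderOf (π a) = Nat.card M' := by
          rw [← orderOf_eq_card_of_forall_mem_zpowers hqgen, ← Subgroup.orderOf_coe]
        refine Nat.dvd_antisymm (orderOf_dvd_iff_pow_eq_one.mpr ?_) (h1 ▸ orderOf_map_dvd π a)
        have : π (a ^ Nat.card M') = 1 := by rw [map_pow, ← h1, pow_orderOf_eq_one]
        rcases hZmem _ ((hker _).mp this) with h | h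
        · exact h
        · exact absurd (h ▸ Subgroup.npow_mem_zpowers a _) hza
      obtain ⟨r, hr⟩ := IsPGroup.iff_card.mp ((hP.to_quotient Z).to_subgroup M')
      have hr2 : 2 ≤ r := by
        by_contra hh
        interval_cases r <;> omega
      obtain ⟨r', rfl⟩ : ∃ r', r = r' + 2 := ⟨r - 2, by omega⟩
      set e := a ^ 2 ^ (r' + 1) with he
      have he2 : orderOf e = 2 := by
        rw [he, orderOf_pow' _ (by positivity), hord, hr,
          Nat.gcd_eq_right (pow_dvd_pow 2 (by omega)), Nat.pow_div (by omega) (by norm_num),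
          show r' + 2 - (r' + 1) = 1 by omega, pow_one]
      have haM : a ∈ M := hq
      obtain ⟨i, hi⟩ := hMgen _ (Subgroup.Normal.conj_mem (H := M) inferInstance a haM x)
      -- the conjugate of `e` is a power of `a`
      have hxe : x * e * x⁻¹ ∈ Subgroup.zpowers a := by
        have hzz : (z : P) ^ 2 ^ (r' + 1) = 1 := by
          rw [pow_succ', pow_mul, sq, mul_self_eq_one hz, one_pow]
        rcases hi with h | h <;> rw [he, ← conj_pow, h]
        · exact Subgroup.pow_mem _ (Subgroup.mem_zpowers_iff.mpr ⟨i, rfl⟩) _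
        · rw [(hzc (a ^ i)).mul_pow, hzz, mul_one]
          exact Subgroup.pow_mem _ (Subgroup.mem_zpowers_iff.mpr ⟨i, rfl⟩) _
      have hea : e ∈ Subgroup.zpowers a := Subgroup.npow_mem_zpowers a _
      have hcomm : x * e * x⁻¹ = e := congrArg Subtype.val
        (eq_of_orderOf_two_of_isCyclic (P := Subgroup.zpowers a) (a := ⟨_, hxe⟩) (b := ⟨e, hea⟩)
          (by rw [← Subgroup.orderOf_coe, orderOf_conj, he2]) (by rw [← Subgroup.orderOf_coe, he2]))
      have heM : e ∈ M := M.pow_mem haM _
      rcases hxzmem e (commute_iff_conj_eq.mpr hcomm).symm with h | h | h | h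
      · exact ne_one_of_orderOf_two he2 h
      · exact hxM (h ▸ heM)
      · exact hza (h ▸ hea)
      · refine hxM ?_
        have := M.mul_mem (h ▸ heM) hzM
        rwa [mul_assoc, mul_self_eq_one hz, mul_one] at this
    have hMeq : M = Subgroup.zpowers a := by
      refine le_antisymm (fun g hg => ?_) (Subgroup.zpowers_le.mpr hq)
      obtain ⟨i, rfl | rfl⟩ := hMgen g hg
      · exact Subgroup.mem_zpowers_iff.mpr ⟨i, rfl⟩
      · exact Subgroup.mul_mem _ (Subgroup.mem_zpowers_iff.mpr ⟨i, rfl⟩) hzin
    rw [hMeq]; infer_instance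

/-- An involution with four-group as a maximal 2-subgroup of its centralizer, in a group of order
divisible by eight, is outside a normal subgroup of index two. -/
theorem exists_normal_index_two {G : Type*} [Group G] [Finite G] {x : G} (hx : orderOf x = 2)
    (V : Subgroup G) (hVC : V ≤ Subgroup.centralizer ({x} : Set G)) (hV : Nat.card V = 4)
    (hmax : ∀ Q : Subgroup G, Q ≤ Subgroup.centralizer ({x} : Set G) → IsPGroup 2 Q →
      Nat.card Q ≤ 4) (h8 : 8 ∣ Nat.card G) :
    ∃ K : Subgroup G, K.Normal ∧ K.index = 2 ∧ x ∉ K := by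
  haveI : Fact (Nat.Prime 2) := ⟨Nat.prime_two⟩
  have hVp : IsPGroup 2 V := IsPGroup.of_card (n := 2) (by rw [hV]; rfl)
  obtain ⟨S, hVS⟩ := hVp.exists_le_sylow
  have hxV : x ∈ V := by
    have hp : IsPGroup 2 (Subgroup.zpowers x ⊔ V : Subgroup G) := by
      refine IsPGroup.to_sup_of_normal_right'
        (IsPGroup.of_card (n := 1) (by rw [Nat.card_zpowers, hx, pow_one])) hVp ?_
      refine Subgroup.zpowers_le.mpr (Subgroup.mem_normalizer_iff.mpr fun v => ?_)
      have key : ∀ w ∈ V, x * w * x⁻¹ = w := fun w hw => commute_iff_conj_eq.mp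
        (Subgroup.mem_centralizer_singleton_iff.mp (hVC hw) : Commute w x).symm
      refine ⟨fun hv => by rwa [key v hv], fun hv => ?_⟩
      have h2 := key _ hv
      have h3 : x * v * x⁻¹ = v := mul_left_cancel (mul_right_cancel h2)
      rwa [h3] at hv
    have hle : Subgroup.zpowers x ⊔ V ≤ Subgroup.centralizer ({x} : Set G) :=
      sup_le (Subgroup.zpowers_le.mpr (Subgroup.mem_centralizer_singleton_iff.mpr rfl)) hVC
    have := Subgroup.eq_of_le_of_card_ge (le_sup_right : V ≤ Subgroup.zpowers x ⊔ V)
      (by rw [hV]; exact hmax _ hle hp)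
    rw [this]
    exact Subgroup.mem_sup_left (Subgroup.mem_zpowers x)
  obtain ⟨xS, hxSeq⟩ : ∃ xS : (S : Subgroup G), xS = ⟨x, hVS hxV⟩ := ⟨_, rfl⟩
  have hxS : orderOf xS = 2 := by rw [hxSeq, ← Subgroup.orderOf_coe, hx]
  have hmapC : (Subgroup.centralizer ({xS} : Set (S : Subgroup G))).map (S : Subgroup G).subtype =
      (S : Subgroup G) ⊓ Subgroup.centralizer ({x} : Set G) := by
    ext g
    simp only [Subgroup.mem_map, Subgroup.mem_inf, Subgroup.mem_centralizer_singleton_iff]
    constructor
    · rintro ⟨s, hs, rfl⟩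
      refine ⟨s.2, ?_⟩
      rw [hxSeq] at hs
      exact congrArg Subtype.val hs
    · rintro ⟨hgS, hg⟩
      exact ⟨⟨g, hgS⟩, by rw [hxSeq]; exact Subtype.ext hg, rfl⟩
  have hCS : Nat.card (Subgroup.centralizer ({xS} : Set (S : Subgroup G))) = 4 := by
    rw [← Subgroup.card_map_of_injective (f := (S : Subgroup G).subtype) Subtype.val_injective, hmapC]
    refine le_antisymm (hmax _ inf_le_right (S.2.to_le inf_le_left)) (hV ▸ ?_)
    exact Nat.card_le_card_of_injective _ (Subgroup.inclusion_injective (le_inf hVS hVC))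
  have hS8 : 8 ∣ Nat.card (S : Subgroup G) := by
    rw [S.card_eq_multiplicity]
    exact (show (8:ℕ) = 2 ^ 3 by rfl) ▸ pow_dvd_pow 2
      ((Nat.Prime.pow_dvd_iff_le_factorization Nat.prime_two Nat.card_pos.ne').mp h8)
  have h8S : 8 ≤ Nat.card (S : Subgroup G) := Nat.le_of_dvd Nat.card_pos hS8
  obtain ⟨M, hMi, hMc, hxM⟩ := exists_cyclic_index_two _ _ rfl S.2 xS hxS hCS h8S
  have hrel : (M.map (S : Subgroup G).subtype).relIndex (S : Subgroup G) = 2 := by
    rw [Subgroup.relIndex, Subgroup.subgroupOf,
      Subgroup.comap_map_eq_self_of_injective Subtype.val_injective, hMi]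
  have hxQ : x ∉ M.map (S : Subgroup G).subtype := by
    rintro ⟨m, hm, he⟩
    exact hxM (by rwa [hxSeq, show (⟨x, hVS hxV⟩ : (S : Subgroup G)) = m from Subtype.ext he.symm])
  rcases CfsgLib.Transfer.thompsonTransferLemma S _ (Subgroup.map_subtype_le M) hrel x hx
    (hVS hxV) hxQ with h | ⟨g, m, hmM, hm⟩
  · exact h
  · exfalso
    haveI : M.Normal := Subgroup.normal_of_index_eq_two hMi
    haveI := hMc
    have hm2 : orderOf (⟨m, hmM⟩ : M) = 2 := by
      rw [← Subgroup.orderOf_coe, ← Subgroup.orderOf_coe]
      simp only [Subgroup.coe_subtype] at hm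
      rw [hm, orderOf_conj, hx]
    have hcen : ∀ s ∈ (S : Subgroup G), Commute s (g * x * g⁻¹) := by
      intro s hs
      refine commute_iff_conj_eq.mpr ?_
      rw [← hm]
      have hmem : (⟨s, hs⟩ : (S : Subgroup G)) * m * ⟨s, hs⟩⁻¹ ∈ M :=
        Subgroup.Normal.conj_mem inferInstance m hmM _
      exact congrArg (fun e : M => ((e : (S : Subgroup G)) : G))
        (eq_of_orderOf_two_of_isCyclic (P := M) (a := ⟨_, hmem⟩) (b := ⟨m, hmM⟩)
          (by
            rw [← Subgroup.orderOf_coe, orderOf_conj]
            exact (Subgroup.orderOf_coe (⟨m, hmM⟩ : M)).trans hm2) hm2)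
    have hle : (S : Subgroup G).map (MulAut.conj g⁻¹).toMonoidHom ≤
        Subgroup.centralizer ({x} : Set G) := by
      rintro _ ⟨s, hs, rfl⟩
      rw [Subgroup.mem_centralizer_singleton_iff]
      have h1 := (hcen s hs).map (MulAut.conj g⁻¹).toMonoidHom
      simp only [MulEquiv.coe_toMonoidHom, MulAut.conj_apply] at h1 ⊢
      rw [show g⁻¹ * (g * x * g⁻¹) * g⁻¹⁻¹ = x by group] at h1
      exact h1.eq
    have := hmax _ hle (S.2.map _)
    rw [Subgroup.card_map_of_injective (f := (MulAut.conj g⁻¹).toMonoidHom)
      (MulAut.conj g⁻¹).injective] at this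
    omega

end CfsgLib.SelfCentralizingFour
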