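import Mathlib

/-! A group of order sixty with a core-free subgroup of index five is the alternating group of
degree five. -/

set_option autoImplicit false

namespace CfsgLib.AltFive

theorem nonempty_mulEquiv {G : Type*} [Group G] [Finite G] {H : Subgroup G}
    (hG : Nat.card G = 60) (hidx : H.index = 5) (hcore : H.normalCore = ⊥) :
    Nonempty (G ≃* ↥(alternatingGroup (Fin 5))) := by
  classical
  obtain ⟨e⟩ : Nonempty (G ⧸ H ≃ Fin 5) := by
    haveI := Fintype.ofFinite (G ⧸ H)
    refine ⟨Fintype.equivFinOfCardEq ?_⟩
    rw [← Nat.card_eq_fintype_card]; exact hidx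
  let f : G →* Equiv.Perm (Fin 5) := e.permCongrHom.toMonoidHom.comp (MulAction.toPermHom G (G ⧸ H))
  have hinj : Function.Injective f := by
    refine e.permCongrHom.injective.comp ?_
    rw [← MonoidHom.ker_eq_bot_iff, ← Subgroup.normalCore_eq_ker]
    exact hcore
  have hr : f.range.index = 2 := by
    have h := Subgroup.index_mul_card f.range
    rw [Nat.card_congr (MonoidHom.ofInjective hinj).toEquiv.symm, hG, Nat.card_perm,
      Nat.card_fin, show Nat.factorial 5 = 120 by rfl] at h
    omega
  exact ⟨(MonoidHom.ofInjective hinj).trans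
    (MulEquiv.subgroupCongr (Equiv.Perm.eq_alternatingGroup_of_index_eq_two hr))⟩

end CfsgLib.AltFive
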