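import Cfsg.Agent.StronglyEmbedded.Basic
import Cfsg.Agent.Chars.Apps.Burnside
import Mathlib.Data.Finite.Perm
import Mathlib.Data.Nat.Prime.Factorial
import Mathlib.Tactic.NormNum.Prime

/-!
A finite group normalized by an outside involution that fixes at most two of its elements is
solvable; an elementary abelian 2-group with this property has order at most four.
-/

set_option autoImplicit false

namespace CfsgLib.TwoFixedPoints

open CfsgLib.StronglyEmbedded (mul_self_eq_one inv_eq_self orderOf_two_iff commute_iff_conj_eq)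

universe u

/-- A perfect group has no proper subgroup of index at most four. -/
theorem five_le_index {K : Type u} [Group K] [Finite K] (hperf : commutator K = ⊤)
    {U : Subgroup K} (hU : U ≠ ⊤) : 5 ≤ U.index := by
  by_contra hlt
  push Not at hlt
  apply hU
  let f := MulAction.toPermHom K (K ⧸ U)
  haveI hs : Group.IsSolvable (Equiv.Perm (K ⧸ U)) := by
    have hc : Nat.card (Equiv.Perm (K ⧸ U)) = U.index.factorial := Nat.card_perm
    have h0 : U.index ≠ 0 := Subgroup.index_ne_zero_of_finite
    refine CfsgLib.Chars.Apps.isSolvable_of_primeFactors_subset _ Nat.prime_two Nat.prime_three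
      fun r hr hd => ?_
    rw [hc] at hd
    have hr4 : r ≤ U.index := (Nat.Prime.dvd_factorial hr).mp hd
    have hr5 : r ≤ 4 := by omega
    have h2 := hr.two_le
    interval_cases r <;> first | omega | exact absurd hr (by norm_num)
  haveI : Group.IsSolvable f.range := inferInstance
  by_contra hne
  have : Nontrivial f.range := by
    by_contra htriv
    rw [not_nontrivial_iff_subsingleton] at htriv
    apply hne
    rw [eq_top_iff]
    intro k _
    have h1 : f.rangeRestrict k = 1 := Subsingleton.elim _ _
    have h2 : f k (QuotientGroup.mk 1) = (QuotientGroup.mk 1 : K ⧸ U) := by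
      rw [show f k = 1 from congrArg Subtype.val h1]; rfl
    rw [MulAction.toPermHom_apply, MulAction.toPerm_apply, MulAction.Quotient.smul_coe,
      smul_eq_mul, mul_one, QuotientGroup.eq] at h2
    simpa using h2
  refine (Group.IsSolvable.commutator_lt_top_of_nontrivial f.range).ne ?_
  rw [eq_top_iff]
  have h := Subgroup.map_commutator ⊤ ⊤ f.rangeRestrict
  rw [Subgroup.map_top_of_surjective _ f.rangeRestrict_surjective, ← commutator_def,
    ← commutator_def, hperf, Subgroup.map_top_of_surjective _ f.rangeRestrict_surjective] at h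
  exact h.le

variable {G : Type u} [Group G] [Finite G]

/-- A perfect group with an outside involution fixing at most two elements is trivial. -/
theorem eq_bot_of_perfect {K : Subgroup G} {x : G} (hx : x * x = 1)
    (hxK : x ∈ Subgroup.normalizer (K : Set G))
    (hfix : Nat.card {k : G // k ∈ K ∧ Commute x k} ≤ 2) (hperf : commutator ↥K = ⊤) : K = ⊥ := by
  classical
  haveI := Fintype.ofFinite G
  haveI := Fintype.ofFinite K
  have hxi : x⁻¹ = x := inv_eq_of_mul_eq_one_right hx
  have hconj : ∀ k ∈ K, x * k * x ∈ K := fun k hk => by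
    have := (Subgroup.mem_normalizer_iff.mp hxK k).mp hk
    rwa [hxi] at this
  -- the class of `x` under `K`
  set cls : Finset G := Finset.univ.image (fun k : K => (k : G) * x * (k : G)⁻¹) with hcls
  have hclssize : Fintype.card K ≤ 2 * cls.card := by
    rw [← Finset.card_univ (α := K)]
    refine Finset.card_le_mul_card_image _ 2 fun b hb => ?_
    obtain ⟨k₀, -, rfl⟩ := Finset.mem_image.mp hb
    refine le_trans ?_ hfix
    rw [← Nat.card_eq_finsetCard]
    refine Nat.card_le_card_of_injective
      (fun k => (⟨(k₀ : G)⁻¹ * (k.1 : G), K.mul_mem (K.inv_mem k₀.2) k.1.2, ?_⟩ :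
        {k : G // k ∈ K ∧ Commute x k})) ?_
    · have hk := (Finset.mem_filter.mp k.2).2
      refine (commute_iff_conj_eq.mpr ?_).symm
      rw [show (k₀ : G)⁻¹ * (k.1 : G) * x * ((k₀ : G)⁻¹ * (k.1 : G))⁻¹ =
        (k₀ : G)⁻¹ * ((k.1 : G) * x * (k.1 : G)⁻¹) * k₀ by group, hk]
      group
    · intro a b hab
      exact Subtype.ext (Subtype.ext (mul_left_cancel (congrArg Subtype.val hab)))
  have hmem : ∀ u ∈ cls, u * u = 1 ∧ x * u ∈ K ∧ u * x ∈ K := by
    intro u hu
    obtain ⟨k, -, rfl⟩ := Finset.mem_image.mp hu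
    refine ⟨?_, ?_, ?_⟩
    · rw [show (k : G) * x * (k : G)⁻¹ * ((k : G) * x * (k : G)⁻¹) = k * (x * x) * (k : G)⁻¹ by group,
        hx]
      group
    · have := K.mul_mem (hconj k k.2) (K.inv_mem k.2)
      rwa [show x * (k : G) * x * (k : G)⁻¹ = x * ((k : G) * x * (k : G)⁻¹) by group] at this
    · have := K.mul_mem k.2 (hconj _ (K.inv_mem k.2))
      rwa [show (k : G) * (x * (k : G)⁻¹ * x) = (k : G) * x * (k : G)⁻¹ * x by group] at this
  have huv : ∀ u ∈ cls, ∀ v ∈ cls, u * v ∈ K := by
    intro u hu v hv
    have := K.mul_mem (hmem u hu).2.2 (hmem v hv).2.1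
    rwa [show u * x * (x * v) = u * (x * x) * v by group, hx, mul_one] at this
  let cent : G → ℕ := fun g => (Finset.univ.filter fun k : K => Commute (k : G) g).card
  -- counting pairs by their product
  have hcount : cls.card * cls.card ≤ ∑ g : K, cent g := by
    rw [← Finset.card_product]
    have hf : ∀ p ∈ cls ×ˢ cls, p.1 * p.2 ∈ (Finset.univ.image (fun g : K => (g : G))) := by
      intro p hp
      obtain ⟨h1, h2⟩ := Finset.mem_product.mp hp
      exact Finset.mem_image.mpr ⟨⟨_, huv _ h1 _ h2⟩, Finset.mem_univ _, rfl⟩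
    rw [Finset.card_eq_sum_card_fiberwise hf, Finset.sum_image (fun a _ b _ h => Subtype.ext h)]
    refine Finset.sum_le_sum fun g _ => ?_
    rcases ((cls ×ˢ cls).filter fun p => p.1 * p.2 = (g : G)).eq_empty_or_nonempty with he | ⟨p₀, hp₀⟩
    · simp [he]
    · obtain ⟨hp₀', hp₀g⟩ := Finset.mem_filter.mp hp₀
      obtain ⟨h01, h02⟩ := Finset.mem_product.mp hp₀'
      have hinv : ∀ u v : G, u * u = 1 → v * v = 1 → u * v = (g : G) →
          u * g * u⁻¹ = (g : G)⁻¹ := by
        intro u v hu hv h
        rw [← h, mul_inv_rev, inv_eq_of_mul_eq_one_right hv, inv_eq_of_mul_eq_one_right hu,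
          ← mul_assoc u u v, hu, one_mul]
      refine le_trans ?_ (le_of_eq (Nat.card_eq_finsetCard _))
      rw [← Nat.card_eq_finsetCard]
      refine Nat.card_le_card_of_injective (fun p => ⟨⟨p₀.1 * p.1.1, ?_⟩, ?_⟩) ?_
      · exact huv _ h01 _ (Finset.mem_product.mp (Finset.mem_filter.mp p.2).1).1
      · obtain ⟨hp', hpg⟩ := Finset.mem_filter.mp p.2
        obtain ⟨h1, h2⟩ := Finset.mem_product.mp hp'
        refine Finset.mem_filter.mpr ⟨Finset.mem_univ _, commute_iff_conj_eq.mpr ?_⟩
        simp only
        rw [show p₀.1 * p.1.1 * (g : G) * (p₀.1 * p.1.1)⁻¹ =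
          p₀.1 * (p.1.1 * (g : G) * p.1.1⁻¹) * p₀.1⁻¹ by group,
          hinv _ _ (hmem _ h1).1 (hmem _ h2).1 hpg,
          show p₀.1 * (g : G)⁻¹ * p₀.1⁻¹ = (p₀.1 * (g : G) * p₀.1⁻¹)⁻¹ by group,
          hinv _ _ (hmem _ h01).1 (hmem _ h02).1 hp₀g, inv_inv]
      · intro a b hab
        have h1 : a.1.1 = b.1.1 := mul_left_cancel (congrArg (fun e => ((e.1 : K) : G)) hab)
        have h2 : a.1.2 = b.1.2 := by
          have ha := (Finset.mem_filter.mp a.2).2
          have hb := (Finset.mem_filter.mp b.2).2
          rw [h1] at ha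
          exact mul_left_cancel (ha.trans hb.symm)
        exact Subtype.ext (Prod.ext h1 h2)
  -- centralizers of non-central elements have index at least five
  have hcent : ∀ g : K, cent g = Nat.card (Subgroup.centralizer ({g} : Set K)) := by
    intro g
    change (Finset.univ.filter fun k : K => Commute (k : G) (g : G)).card = _
    rw [← Nat.card_eq_finsetCard]
    refine Nat.card_congr (Equiv.subtypeEquivRight fun k => ?_)
    rw [Finset.mem_filter, Subgroup.mem_centralizer_singleton_iff]
    exact ⟨fun h => Subtype.ext h.2.eq, fun h => ⟨Finset.mem_univ _, congrArg Subtype.val h⟩⟩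
  have hbound : ∀ g : K, 5 * cent g ≤
      Fintype.card K + if g ∈ Subgroup.center K then 4 * Fintype.card K else 0 := by
    intro g
    rw [hcent, ← Nat.card_eq_fintype_card]
    split_ifs with hg
    · have := Nat.card_le_card_of_injective _ (Subgroup.subtype_injective (Subgroup.centralizer ({g} : Set K)))
      omega
    · have h5 : 5 ≤ (Subgroup.centralizer ({g} : Set K)).index := five_le_index hperf fun h => hg
        (Subgroup.mem_center_iff.mpr fun k =>
          Subgroup.mem_centralizer_singleton_iff.mp (h ▸ Subgroup.mem_top k))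
      rw [← Subgroup.index_mul_card (Subgroup.centralizer ({g} : Set K)), add_zero]
      exact Nat.mul_le_mul_right _ h5
  have hsum : 5 * ∑ g : K, cent g ≤
      Fintype.card K * Fintype.card K + Nat.card (Subgroup.center K) * (4 * Fintype.card K) := by
    rw [Finset.mul_sum]
    refine (Finset.sum_le_sum fun g _ => hbound g).trans (le_of_eq ?_)
    rw [Finset.sum_add_distrib, Finset.sum_const, Finset.card_univ, smul_eq_mul, Finset.sum_ite,
      Finset.sum_const_zero, add_zero, Finset.sum_const, smul_eq_mul, ← Fintype.card_subtype,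
      ← Nat.card_eq_fintype_card (α := {g : K // g ∈ Subgroup.center K})]
  have hZ : (Subgroup.center K).index ≤ 16 := by
    have h1 : Fintype.card K * Fintype.card K ≤ 16 * (Nat.card (Subgroup.center K) * Fintype.card K) := by
      have h2 := Nat.mul_le_mul hclssize hclssize
      nlinarith [hcount, hsum]
    have h2 := Subgroup.index_mul_card (Subgroup.center K)
    rw [Nat.card_eq_fintype_card (α := K)] at h2
    have h3 : 0 < Nat.card (Subgroup.center K) * Fintype.card K :=
      Nat.mul_pos Nat.card_pos Fintype.card_pos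
    refine Nat.le_of_mul_le_mul_right (le_trans (le_of_eq ?_) h1) h3
    rw [← mul_assoc, h2]
  have htop : Subgroup.center K = ⊤ := by
    by_contra hne
    haveI : Group.IsSolvable (K ⧸ Subgroup.center K) := by
      have hi : Nat.card (K ⧸ Subgroup.center K) = (Subgroup.center K).index := rfl
      have hpos : (Subgroup.center K).index ≠ 0 := Subgroup.index_ne_zero_of_finite
      set i := (Subgroup.center K).index with hi'
      interval_cases i
      · omega
      all_goals first
        | exact CfsgLib.Chars.Apps.isSolvable_of_card_eq_pow_mul_pow _ (a := 0) (b := 0) Nat.prime_two Nat.prime_three hi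
        | exact CfsgLib.Chars.Apps.isSolvable_of_card_eq_pow_mul_pow _ (a := 1) (b := 0) Nat.prime_two Nat.prime_three hi
        | exact CfsgLib.Chars.Apps.isSolvable_of_card_eq_pow_mul_pow _ (a := 2) (b := 0) Nat.prime_two Nat.prime_three hi
        | exact CfsgLib.Chars.Apps.isSolvable_of_card_eq_pow_mul_pow _ (a := 3) (b := 0) Nat.prime_two Nat.prime_three hi
        | exact CfsgLib.Chars.Apps.isSolvable_of_card_eq_pow_mul_pow _ (a := 4) (b := 0) Nat.prime_two Nat.prime_three hi
        | exact CfsgLib.Chars.Apps.isSolvable_of_card_eq_pow_mul_pow _ (a := 0) (b := 1) Nat.prime_two Nat.prime_three hi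
        | exact CfsgLib.Chars.Apps.isSolvable_of_card_eq_pow_mul_pow _ (a := 1) (b := 1) Nat.prime_two Nat.prime_three hi
        | exact CfsgLib.Chars.Apps.isSolvable_of_card_eq_pow_mul_pow _ (a := 2) (b := 1) Nat.prime_two Nat.prime_three hi
        | exact CfsgLib.Chars.Apps.isSolvable_of_card_eq_pow_mul_pow _ (a := 0) (b := 2) Nat.prime_two Nat.prime_three hi
        | exact CfsgLib.Chars.Apps.isSolvable_of_card_eq_pow_mul_pow _ (p := 5) (q := 7) (a := 1) (b := 0) (by norm_num) (by norm_num) hi
        | exact CfsgLib.Chars.Apps.isSolvable_of_card_eq_pow_mul_pow _ (p := 5) (q := 7) (a := 0) (b := 1) (by norm_num) (by norm_num) hi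
        | exact CfsgLib.Chars.Apps.isSolvable_of_card_eq_pow_mul_pow _ (p := 2) (q := 5) (a := 1) (b := 1) (by norm_num) (by norm_num) hi
        | exact CfsgLib.Chars.Apps.isSolvable_of_card_eq_pow_mul_pow _ (p := 11) (q := 13) (a := 1) (b := 0) (by norm_num) (by norm_num) hi
        | exact CfsgLib.Chars.Apps.isSolvable_of_card_eq_pow_mul_pow _ (p := 11) (q := 13) (a := 0) (b := 1) (by norm_num) (by norm_num) hi
        | exact CfsgLib.Chars.Apps.isSolvable_of_card_eq_pow_mul_pow _ (p := 2) (q := 7) (a := 1) (b := 1) (by norm_num) (by norm_num) hi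
        | exact CfsgLib.Chars.Apps.isSolvable_of_card_eq_pow_mul_pow _ (p := 3) (q := 5) (a := 1) (b := 1) (by norm_num) (by norm_num) hi
    haveI : Nontrivial (K ⧸ Subgroup.center K) := by
      rw [← Finite.one_lt_card_iff_nontrivial]
      exact Subgroup.one_lt_index_of_ne_top hne
    refine (Group.IsSolvable.commutator_lt_top_of_nontrivial (K ⧸ Subgroup.center K)).ne ?_
    have h := Subgroup.map_commutator ⊤ ⊤ (QuotientGroup.mk' (Subgroup.center K))
    rw [Subgroup.map_top_of_surjective _ (QuotientGroup.mk'_surjective _), ← commutator_def,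
      ← commutator_def, hperf, Subgroup.map_top_of_surjective _ (QuotientGroup.mk'_surjective _)] at h
    exact h.symm
  have hbot : commutator K = ⊥ := by
    rw [commutator_def, Subgroup.commutator_eq_bot_iff_le_centralizer]
    intro k _
    rw [Subgroup.mem_centralizer_iff]
    intro l _
    exact Subgroup.mem_center_iff.mp (htop ▸ Subgroup.mem_top k) l
  rw [Subgroup.eq_bot_iff_forall]
  intro k hk
  have : (⟨k, hk⟩ : K) ∈ (⊥ : Subgroup K) := hbot ▸ hperf ▸ Subgroup.mem_top _
  exact congrArg Subtype.val (Subgroup.mem_bot.mp this)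

theorem isSolvable_aux : ∀ (n : ℕ) (K : Subgroup G), Nat.card K = n → ∀ x : G, x * x = 1 →
    x ∈ Subgroup.normalizer (K : Set G) → Nat.card {k : G // k ∈ K ∧ Commute x k} ≤ 2 →
    Group.IsSolvable K := by
  intro n
  induction n using Nat.strong_induction_on with
  | _ n ih =>
  intro K hn x hx hxK hfix
  have hmap : (commutator ↥K).map K.subtype = ⁅K, K⁆ := Subgroup.map_subtype_commutator K
  have hle : ⁅K, K⁆ ≤ K := hmap ▸ Subgroup.map_subtype_le _
  by_cases hperf : commutator ↥K = ⊤
  · rw [eq_bot_of_perfect hx hxK hfix hperf]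
    infer_instance
  · have hlt : Nat.card (⁅K, K⁆ : Subgroup G) < n := by
      rw [← hn, ← hmap, Subgroup.card_map_of_injective (f := K.subtype) Subtype.val_injective]
      exact lt_of_le_of_ne (Nat.card_le_card_of_injective _ (commutator ↥K).subtype_injective)
        fun he => hperf (Subgroup.eq_top_of_card_eq _ he)
    have hx' : x ∈ Subgroup.normalizer ((⁅K, K⁆ : Subgroup G) : Set G) := by
      rw [Subgroup.mem_normalizer_iff_map_conj_eq, Subgroup.map_commutator,
        Subgroup.mem_normalizer_iff_map_conj_eq.mp hxK]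
    have hfix' : Nat.card {k : G // k ∈ (⁅K, K⁆ : Subgroup G) ∧ Commute x k} ≤ 2 :=
      le_trans (Nat.card_le_card_of_injective (fun k => (⟨k.1, hle k.2.1, k.2.2⟩ :
        {k : G // k ∈ K ∧ Commute x k})) fun a b h => Subtype.ext (congrArg Subtype.val h :)) hfix
    haveI hs' : Group.IsSolvable ↥((commutator ↥K).map K.subtype) := hmap.symm ▸ ih _ hlt _ rfl x hx hx' hfix'
    haveI : Group.IsSolvable (commutator ↥K) := by
      refine Group.isSolvable_of_isSolvable_injective
        (f := ((commutator ↥K).equivMapOfInjective K.subtype Subtype.val_injective).toMonoidHom) ?_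
      · exact MulEquiv.injective _
    exact Group.isSolvable_of_ker_le_range (commutator ↥K).subtype (Abelianization.of (G := ↥K))
      (by rw [Abelianization.ker_of, Subgroup.range_subtype])

/-- A group normalized by an involution fixing at most two of its elements is solvable. -/
theorem isSolvable_of_fixed_le_two {K : Subgroup G} {x : G} (hx : x * x = 1)
    (hxK : x ∈ Subgroup.normalizer (K : Set G))
    (hfix : Nat.card {k : G // k ∈ K ∧ Commute x k} ≤ 2) : Group.IsSolvable K :=
  isSolvable_aux _ K rfl x hx hxK hfix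

/-- An elementary abelian 2-group with at most two fixed points has order at most four. -/
theorem card_le_four {E : Subgroup G} {x : G} (hx : x * x = 1)
    (hxE : x ∈ Subgroup.normalizer (E : Set G)) (hE : IsMulCommutative E)
    (hsq : ∀ a ∈ E, a * a = 1) (hfix : Nat.card {k : G // k ∈ E ∧ Commute x k} ≤ 2) :
    Nat.card E ≤ 4 := by
  have hxi : x⁻¹ = x := inv_eq_of_mul_eq_one_right hx
  have hc : ∀ a ∈ E, ∀ b ∈ E, a * b = b * a := fun a ha b hb =>
    congrArg Subtype.val (hE.is_comm.comm ⟨a, ha⟩ ⟨b, hb⟩)
  have hconj : ∀ k ∈ E, x * k * x ∈ E := fun k hk => by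
    have := (Subgroup.mem_normalizer_iff.mp hxE k).mp hk
    rwa [hxi] at this
  have hxx : ∀ a : G, x * (x * a) = a := fun a => by rw [← mul_assoc, hx, one_mul]
  let f : ↥E →* G :=
    { toFun := fun a => (a : G) * (x * a * x)
      map_one' := by simp [hx]
      map_mul' := fun a b => by
        have h := hc _ (hconj _ a.2) _ b.2
        calc ((a * b : ↥E) : G) * (x * ((a * b : ↥E) : G) * x)
            = (a : G) * ((b : G) * (x * a * x)) * (x * b * x) := by
              simp [mul_assoc, hxx]
          _ = (a : G) * ((x * a * x) * b) * (x * b * x) := by rw [h]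
          _ = (a : G) * (x * a * x) * ((b : G) * (x * b * x)) := by simp [mul_assoc] }
  have hcomm : ∀ a ∈ E, x * a * x = a → Commute x a := by
    intro a _ h
    refine commute_iff_conj_eq.mpr ?_
    rwa [hxi]
  have hk : Nat.card f.ker ≤ 2 := by
    refine le_trans (Nat.card_le_card_of_injective (fun a => (⟨((a : ↥E) : G), a.1.2, hcomm _ a.1.2 ?_⟩ :
      {k : G // k ∈ E ∧ Commute x k})) fun a b h => Subtype.ext (Subtype.ext (congrArg Subtype.val h :))) hfix
    have h1 : (a.1 : G) * (x * a.1 * x) = 1 := a.2
    exact (eq_inv_of_mul_eq_one_right h1).trans (inv_eq_of_mul_eq_one_right (hsq _ a.1.2))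
  have hr : Nat.card f.range ≤ 2 := by
    refine le_trans (Nat.card_le_card_of_injective (fun a => (⟨(a : G), ?_⟩ :
      {k : G // k ∈ E ∧ Commute x k})) fun a b h => Subtype.ext (congrArg Subtype.val h :)) hfix
    obtain ⟨b, hb⟩ := a.2
    rw [← hb]
    refine ⟨E.mul_mem b.2 (hconj _ b.2), hcomm _ (E.mul_mem b.2 (hconj _ b.2)) ?_⟩
    calc x * ((b : G) * (x * b * x)) * x = (x * b * x) * b := by simp [mul_assoc, hx]
      _ = (b : G) * (x * b * x) := hc _ (hconj _ b.2) _ b.2
  rw [← Subgroup.index_mul_card f.ker, Subgroup.index_ker]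
  exact Nat.mul_le_mul hr hk

end CfsgLib.TwoFixedPoints
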